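import Mathlib
import Groth.Agent.S0300
import Groth.Agent.InjHull.Basic
import Groth.Agent.DRingKP.InjAmp

/-!
# Polynomial modules over injectives have injective dimension at most one
-/

set_option autoImplicit false
set_option linter.style.haveILetI false

universe u

namespace Groth.Agent.PolyInj

open CategoryTheory Polynomial TensorProduct

theorem injective_tensor_polynomial (A : Type u) [CommRing A] [IsNoetherianRing A] (E : Type u)
    [AddCommGroup E] [Module A E] [Module.Injective A E] : Module.Injective A (A[X] ⊗[A] E) := by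
  classical
  haveI : Module.Injective A (DirectSum (ULift.{u} ℕ) fun _ => E) :=
    Groth.Agent.S0300.result A (fun _ => E) fun _ => inferInstance
  let e1 : (A[X] ⊗[A] E) ≃ₗ[A] ((ULift.{u} ℕ →₀ A) ⊗[A] E) :=
    TensorProduct.congr (((basisMonomials A).reindex Equiv.ulift.symm).repr) (LinearEquiv.refl A E)
  let e2 : ((ULift.{u} ℕ →₀ A) ⊗[A] E) ≃ₗ[A] (ULift.{u} ℕ →₀ E) :=
    TensorProduct.finsuppScalarLeft A E (ULift.{u} ℕ)
  exact InjHull.injective_of_linearEquiv (e1.trans (e2.trans (finsuppLEquivDirectSum A E (ULift.{u} ℕ)))).symm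

variable (A : Type u) [CommRing A] (M : Type u) [AddCommGroup M] [Module A[X] M] [Module A M]
  [IsScalarTower A A[X] M]

/-- The coinduced module. -/
noncomputable abbrev coind : ModuleCat.{u} A[X] :=
  (ModuleCat.coextendScalars (algebraMap A A[X])).obj (ModuleCat.of A M)

variable {A M}

/-- An element of the coinduced module as a linear map. -/
noncomputable def toHom (φ : coind A M) : A[X] →ₗ[A] M where
  toFun b := φ b
  map_add' a b := (ModuleCat.CoextendScalars.equiv (algebraMap A A[X]) (ModuleCat.of A M) φ).map_add a b
  map_smul' t a := by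
    rw [Algebra.smul_def]
    exact (ModuleCat.CoextendScalars.equiv (algebraMap A A[X]) (ModuleCat.of A M) φ).map_smul t a

/-- A linear map as an element of the coinduced module. -/
noncomputable def ofHom (f : A[X] →ₗ[A] M) : coind A M :=
  (ModuleCat.CoextendScalars.equiv (algebraMap A A[X]) (ModuleCat.of A M)).symm
    { toFun := fun b : A[X] => f b
      map_add' := fun (a b : A[X]) => f.map_add a b
      map_smul' := fun t (a : A[X]) => by
        show f (algebraMap A A[X] t * a) = t • f a
        rw [← Algebra.smul_def, map_smul] }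

theorem toHom_ofHom (f : A[X] →ₗ[A] M) : toHom (ofHom f) = f := rfl

theorem coind_ext {φ ψ : coind A M} (h : ∀ b, toHom φ b = toHom ψ b) : φ = ψ :=
  ModuleCat.CoextendScalars.ext (LinearMap.ext fun (b : A[X]) => h b)

theorem toHom_smul (q : A[X]) (φ : coind A M) (b : A[X]) : toHom (q • φ) b = toHom φ (b * q) := rfl
theorem toHom_add (φ ψ : coind A M) (b : A[X]) : toHom (φ + ψ) b = toHom φ b + toHom ψ b := rfl

variable (A M)

/-- The unit. -/
noncomputable def unit : M →ₗ[A[X]] coind A M where
  toFun m := ofHom ((LinearMap.toSpanSingleton A[X] M m).restrictScalars A)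
  map_add' m m' := coind_ext fun b => smul_add b m m'
  map_smul' q m := coind_ext fun b => (mul_smul b q m).symm

/-- The commutator with the variable. -/
noncomputable def delta : coind A M →ₗ[A[X]] coind A M where
  toFun φ := ofHom
    { toFun := fun b => (X : A[X]) • toHom φ b - toHom φ (b * X)
      map_add' := fun a b => by rw [add_mul, map_add, map_add, smul_add]; abel
      map_smul' := fun t a => by rw [smul_mul_assoc, map_smul, map_smul, smul_comm, smul_sub]; rfl }
  map_add' φ ψ := coind_ext fun b => by
    change (X : A[X]) • (toHom φ b + toHom ψ b) - (toHom φ (b * X) + toHom ψ (b * X)) =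
      ((X : A[X]) • toHom φ b - toHom φ (b * X)) + ((X : A[X]) • toHom ψ b - toHom ψ (b * X))
    rw [smul_add]; abel
  map_smul' q φ := coind_ext fun b => by
    change (X : A[X]) • toHom φ (b * q) - toHom φ (b * X * q) = (X : A[X]) • toHom φ (b * q) - toHom φ (b * q * X)
    rw [mul_right_comm]

theorem toHom_delta (φ : coind A M) (b : A[X]) :
    toHom (delta A M φ) b = (X : A[X]) • toHom φ b - toHom φ (b * X) := rfl

theorem exact_unit_delta : Function.Exact (unit A M) (delta A M) := by
  intro φ
  refine ⟨fun h => ⟨toHom φ 1, coind_ext fun b => ?_⟩, ?_⟩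
  · have hX : ∀ b, toHom φ (b * X) = (X : A[X]) • toHom φ b := fun b => by
      have h' : toHom (delta A M φ) b = 0 := by rw [h]; rfl
      rw [toHom_delta, sub_eq_zero] at h'
      exact h'.symm
    have hn : ∀ n : ℕ, toHom φ (X ^ n) = (X : A[X]) ^ n • toHom φ 1 := by
      intro n
      induction n with
      | zero => simp
      | succ n ih => rw [pow_succ, hX, ih, ← mul_smul, mul_comm]
    change b • toHom φ 1 = toHom φ b
    induction b using Polynomial.induction_on' with
    | add p q hp hq => rw [add_smul, map_add, hp, hq]
    | monomial n a =>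
      rw [← C_mul_X_pow_eq_monomial, ← smul_eq_C_mul, map_smul, hn, smul_assoc]
  · rintro ⟨m, rfl⟩
    refine coind_ext fun b => ?_
    change (X : A[X]) • (b • m) - (b * X) • m = 0
    rw [← mul_smul, mul_comm, sub_self]

theorem unit_injective : Function.Injective (unit A M) := fun m m' h => by
  have := congrArg (fun φ => toHom φ 1) h
  change (1 : A[X]) • m = (1 : A[X]) • m' at this
  rwa [one_smul, one_smul] at this

theorem delta_surjective : Function.Surjective (delta A M) := by
  intro ψ
  let c : ℕ → M := fun n => Nat.rec (motive := fun _ => M) 0 (fun k ck => (X : A[X]) • ck - toHom ψ (X ^ k)) n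
  refine ⟨ofHom ((basisMonomials A).constr A c), coind_ext fun b => ?_⟩
  have key : ∀ b, (X : A[X]) • ((basisMonomials A).constr A c b) - (basisMonomials A).constr A c (b * X) = toHom ψ b := by
    intro b
    induction b using Polynomial.induction_on' with
    | add p q hp hq => rw [add_mul, map_add, map_add, map_add, smul_add, ← hp, ← hq]; abel
    | monomial n a =>
      have hc : ∀ k, (basisMonomials A).constr A c (X ^ k) = c k := fun k => by
        rw [X_pow_eq_monomial]
        exact (congrArg _ (congrFun (coe_basisMonomials (R := A)) k).symm).trans ((basisMonomials A).constr_basis A c k)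
      rw [← C_mul_X_pow_eq_monomial, ← smul_eq_C_mul, smul_mul_assoc, map_smul, map_smul, map_smul,
        ← pow_succ, hc, hc, smul_comm, ← smul_sub]
      exact congrArg (a • ·) (sub_sub_cancel _ _)
  exact key b

theorem injective_coind [Module.Injective A M] : Injective (coind A M) := by
  have : Injective (ModuleCat.of A M) := Module.injective_object_of_injective_module A M
  exact (ModuleCat.restrictCoextendScalarsAdj (algebraMap A A[X])).map_injective (ModuleCat.of A M) inferInstance

theorem hasInjectiveDimensionLT_two [Module.Injective A M] :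
    HasInjectiveDimensionLT (ModuleCat.of A[X] M) 2 := by
  haveI := injective_coind A M
  let S : ShortComplex (ModuleCat.{u} A[X]) :=
    ShortComplex.mk (ModuleCat.ofHom (unit A M) : ModuleCat.of A[X] M ⟶ coind A M)
      (ModuleCat.ofHom (delta A M)) (ModuleCat.hom_ext (LinearMap.ext fun m => (exact_unit_delta A M (unit A M m)).mpr ⟨m, rfl⟩))
  have hS : S.ShortExact :=
    { exact := (ShortComplex.ShortExact.moduleCat_exact_iff_function_exact S).mpr (exact_unit_delta A M)
      mono_f := (ModuleCat.mono_iff_injective _).mpr (unit_injective A M)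
      epi_g := (ModuleCat.epi_iff_surjective _).mpr (delta_surjective A M) }
  have h3 : HasInjectiveDimensionLT S.X₃ 1 := inferInstanceAs (HasInjectiveDimensionLT (coind A M) 1)
  haveI h1 : HasInjectiveDimensionLT (coind A M) 1 := inferInstance
  have h2 : HasInjectiveDimensionLT S.X₂ 2 := hasInjectiveDimensionLT_of_ge (coind A M) 1 2 (by omega)
  exact hS.hasInjectiveDimensionLT_X₁ 1 h3 h2

attribute [local instance] HasDerivedCategory.standard

theorem hasInjAmplitudeIn {R : Type u} [CommRing R] (N : Type u) [AddCommGroup N] [Module R N] (d : ℕ)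
    [h : HasInjectiveDimensionLT (ModuleCat.of R N) (d + 1)] :
    DRing.HasInjAmplitudeIn R 0 d (Dual.inD R N) := by
  refine (DRingKP.injAmp_iff _ _ _).2 fun I i hi => ?_
  rcases hi with hi | hi
  · refine subsingleton_of_forall_eq 0 fun f => ?_
    haveI : (Dual.inD R N).IsGE 0 := inferInstance
    haveI : ((Dual.inD R N)⟦i⟧).IsGE (-i) := DerivedCategory.TStructure.t.isGE_shift _ 0 i (-i) (by omega)
    exact DerivedCategory.TStructure.t.zero f 0 (-i) (by omega)
  · obtain ⟨k, rfl⟩ := Int.eq_ofNat_of_zero_le (show 0 ≤ i by omega)
    haveI : HasExt.{u + 1} (ModuleCat.{u} R) := HasExt.standard _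
    haveI : HasInjectiveDimensionLT (ModuleCat.of R N) k :=
      hasInjectiveDimensionLT_of_ge (ModuleCat.of R N) (d + 1) k (by omega)
    haveI : Subsingleton (Abelian.Ext.{u + 1} (ModuleCat.of R (R ⧸ I)) (ModuleCat.of R N) k) :=
      HasInjectiveDimensionLT.subsingleton (ModuleCat.of R N) k k le_rfl _
    exact Abelian.Ext.homEquiv.symm.subsingleton

end Groth.Agent.PolyInj
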